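import Mathlib.Algebra.Homology.TotalComplex
import Mathlib.Algebra.Homology.ShortComplex.Abelian
import Mathlib.Algebra.Homology.ShortComplex.ShortExact
import Mathlib.Algebra.Homology.HomologicalComplexAbelian
import Mathlib.Algebra.Homology.ShortComplex.HomologicalComplex
import Mathlib.CategoryTheory.Abelian.Refinements
import Mathlib.CategoryTheory.Limits.Shapes.FiniteProducts
import Mathlib.Tactic.Linarith
import Mathlib.Data.Int.Interval
import Mathlib.Algebra.Homology.ComplexShapeSigns

/-!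
# Total complexes of bounded below double complexes
-/

set_option autoImplicit false
set_option linter.style.haveILetI false
set_option linter.unusedSectionVars false

universe w v u

open CategoryTheory CategoryTheory.Limits HomologicalComplex

namespace Groth.Agent.H16Derived.Double

variable {A : Type u} [Category.{v} A] [Abelian A]

/-- Double complexes. -/
abbrev Dbl (A : Type u) [Category.{v} A] [Abelian A] :=
  HomologicalComplex₂ A (ComplexShape.up ℤ) (ComplexShape.up ℤ)

/-- Zero outside the quadrant `p ≥ a`, `q ≥ b`. -/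
def Bdd (K : Dbl A) (a b : ℤ) : Prop := ∀ p q : ℤ, p < a ∨ q < b → IsZero ((K.X p).X q)

/-- Coproducts of families with finitely many nonzero members exist. -/
theorem hasCoproduct_of_finite {J : Type w} (f : J → A) (s : Finset J) (hs : ∀ j ∉ s, IsZero (f j)) :
    HasCoproduct f := by
  classical
  let g := fun j : s => f j.1
  exact HasColimit.mk ⟨Cofan.mk (∐ g) fun j => if h : j ∈ s then Sigma.ι g ⟨j, h⟩ else 0,
    Cofan.IsColimit.mk _ (fun c => Sigma.desc fun j : s => c.inj j.1)
      (fun c j => by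
        by_cases h : j ∈ s
        · show (dite (j ∈ s) _ _) ≫ _ = _
          rw [dif_pos h]
          exact Sigma.ι_desc _ _
        · exact (hs j h).eq_of_src _ _)
      (fun c m hm => Sigma.hom_ext (f := g) _ _ fun j => by
        have := hm j.1
        refine Eq.trans ?_ ((Sigma.ι_desc (fun j : s => c.inj j.1) j).symm)
        refine Eq.trans ?_ this
        show Sigma.ι g j ≫ m = (dite (j.1 ∈ s) _ _) ≫ m
        rw [dif_pos j.2])⟩

/-- Bounded double complexes have total complexes. -/
theorem hasTotal {K : Dbl A} {a b : ℤ} (h : Bdd K a b) : K.HasTotal (ComplexShape.up ℤ) := fun n => by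
  classical
  refine hasCoproduct_of_finite _ ((Finset.Icc a (n - b)).image
    fun p => (⟨(p, n - p), (show p + (n - p) = n by omega)⟩ :
      {i : ℤ × ℤ // ComplexShape.π (ComplexShape.up ℤ) (ComplexShape.up ℤ) (ComplexShape.up ℤ) i = n}))
    fun ⟨⟨p, q⟩, hpq⟩ hj => ?_
  have hpq' : p + q = n := hpq
  refine h p q ?_
  by_contra hc
  refine hj (Finset.mem_image.2 ⟨p, Finset.mem_Icc.2 ⟨by omega, by omega⟩, ?_⟩)
  obtain rfl : q = n - p := by omega
  rfl

variable (K : Dbl A) [K.HasTotal (ComplexShape.up ℤ)]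

/-- The inclusions. -/
noncomputable abbrev ι (p q n : ℤ) (h : p + q = n) : (K.X p).X q ⟶ (K.total (ComplexShape.up ℤ)).X n :=
  K.ιTotal (ComplexShape.up ℤ) p q n h

/-- The projections. -/
noncomputable def π (p q n : ℤ) (h : p + q = n) : (K.total (ComplexShape.up ℤ)).X n ⟶ (K.X p).X q :=
  K.totalDesc fun p' q' h' =>
    if e : p' = p then (K.XXIsoOfEq _ _ _ e (by have : p' + q' = n := h'; omega)).hom else 0

lemma ι_π_self (p q n : ℤ) (h : p + q = n) : ι K p q n h ≫ π K p q n h = 𝟙 _ := by
  simp [π]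

lemma ι_π_ne (p q p' q' n : ℤ) (h : p + q = n) (h' : p' + q' = n) (hne : p ≠ p') :
    ι K p q n h ≫ π K p' q' n h' = 0 := by
  simp [π, hne]

variable {K}

lemma sum_π_ι {a b : ℤ} (hK : Bdd K a b) (n : ℤ) (N : ℤ) (hN : n - b ≤ N) :
    ∑ p ∈ Finset.Icc a N, π K p (n - p) n (by omega) ≫ ι K p (n - p) n (by omega) = 𝟙 _ := by
  refine HomologicalComplex₂.total.hom_ext (ComplexShape.up ℤ) fun p q h => ?_
  have hpq : p + q = n := h
  rw [Preadditive.comp_sum, Category.comp_id]
  by_cases hr : a ≤ p ∧ b ≤ q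
  · rw [Finset.sum_eq_single p]
    · obtain rfl : q = n - p := by omega
      erw [reassoc_of% (ι_π_self K p (n - p) n hpq)]
    · intro p' _ hne
      erw [reassoc_of% (ι_π_ne K p q p' (n - p') n hpq (by omega) (Ne.symm hne)), zero_comp]
    · intro hp
      exact (hp (Finset.mem_Icc.2 ⟨hr.1, by omega⟩)).elim
  · exact (hK p q (by omega)).eq_of_src _ _

lemma π_ext {a b : ℤ} (hK : Bdd K a b) {n : ℤ} {W : A} {x y : W ⟶ (K.total (ComplexShape.up ℤ)).X n}
    (h : ∀ (p q : ℤ) (h : p + q = n), x ≫ π K p q n h = y ≫ π K p q n h) : x = y := by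
  rw [← Category.comp_id x, ← Category.comp_id y, ← sum_π_ι hK n _ le_rfl, Preadditive.comp_sum,
    Preadditive.comp_sum]
  exact Finset.sum_congr rfl fun p _ => by rw [← Category.assoc, h, Category.assoc]

lemma ι_d (p q n p' q' m : ℤ) (h : p + q = n) (hm : n + 1 = m) (hp : p + 1 = p') (hq : q + 1 = q') :
    ι K p q n h ≫ (K.total (ComplexShape.up ℤ)).d n m =
      (K.d p p').f q ≫ ι K p' q m (by omega) +
        p.negOnePow • ((K.X p).d q q' ≫ ι K p q' m (by omega)) := by
  show ι K p q n h ≫ (K.D₁ _ n m + K.D₂ _ n m) = _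
  rw [Preadditive.comp_add]
  simp only [ι, HomologicalComplex₂.ι_D₁, HomologicalComplex₂.ι_D₂]
  rw [HomologicalComplex₂.d₁_eq K (ComplexShape.up ℤ) (show (ComplexShape.up ℤ).Rel p p' from hp) q m
      (show p' + q = m by omega),
    HomologicalComplex₂.d₂_eq K (ComplexShape.up ℤ) p (show (ComplexShape.up ℤ).Rel q q' from hq) m
      (show p + q' = m by omega),
    show ComplexShape.ε₁ (ComplexShape.up ℤ) (ComplexShape.up ℤ) (ComplexShape.up ℤ) (p, q) = 1 from rfl,
    show ComplexShape.ε₂ (ComplexShape.up ℤ) (ComplexShape.up ℤ) (ComplexShape.up ℤ) (p, q) =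
      p.negOnePow from rfl, one_smul]

lemma ι_d_π_top (p q n p' m : ℤ) (h : p + q = n) (hm : n + 1 = m) (hp : p + 1 = p') :
    ι K p q n h ≫ (K.total (ComplexShape.up ℤ)).d n m ≫ π K p' q m (by omega) = (K.d p p').f q := by
  rw [← Category.assoc, ι_d p q n p' (q + 1) m h hm hp rfl, Preadditive.add_comp, Linear.units_smul_comp,
    Category.assoc, Category.assoc, ι_π_self, Category.comp_id,
    ι_π_ne K p (q + 1) p' q m (by omega) (by omega) (by omega), comp_zero, smul_zero, add_zero]

lemma ι_d_π_above (p q n p' q' m : ℤ) (h : p + q = n) (hm : n + 1 = m) (h' : p' + q' = m)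
    (hp : p + 1 < p') :
    ι K p q n h ≫ (K.total (ComplexShape.up ℤ)).d n m ≫ π K p' q' m h' = 0 := by
  rw [← Category.assoc, ι_d p q n (p + 1) (q + 1) m h hm rfl rfl, Preadditive.add_comp,
    Linear.units_smul_comp, Category.assoc, Category.assoc,
    ι_π_ne K (p + 1) q p' q' m (by omega) h' (by omega),
    ι_π_ne K p (q + 1) p' q' m (by omega) h' (by omega), comp_zero, comp_zero, smul_zero, add_zero]

/-- Exactness in the first direction gives exact totals. -/
theorem acyclic_total {a b : ℤ} (hK : Bdd K a b)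
    (hex : HomologicalComplex.Acyclic (C := HomologicalComplex A (ComplexShape.up ℤ)) K) :
    (K.total (ComplexShape.up ℤ)).Acyclic := by
  intro n
  let T := K.total (ComplexShape.up ℤ)
  rw [exactAt_iff' _ (n - 1) n (n + 1) (by simp) (by simp),
    ShortComplex.exact_iff_exact_up_to_refinements]
  have key : ∀ (k : ℕ) (W : A) (x : W ⟶ T.X n),
      x ≫ T.d n (n + 1) = 0 → (∀ (p q : ℤ) (h : p + q = n), a + k ≤ p → x ≫ π K p q n h = 0) →
      ∃ (W' : A) (e : W' ⟶ W) (_ : Epi e) (y : W' ⟶ T.X (n - 1)),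
        e ≫ x = y ≫ T.d (n - 1) n := by
    intro k
    induction k with
    | zero =>
      intro W x _ hx
      refine ⟨W, 𝟙 W, inferInstance, 0, ?_⟩
      rw [Category.id_comp, zero_comp]
      refine π_ext hK fun p q h => ?_
      rw [zero_comp]
      by_cases hp : a ≤ p
      · exact hx p q h (by simpa using hp)
      · exact (hK p q (Or.inl (by omega))).eq_of_tgt _ _
    | succ k ih =>
      intro W x hx hxk
      obtain ⟨p₀, hp₀⟩ : ∃ p₀, p₀ = a + (k : ℤ) := ⟨_, rfl⟩
      obtain ⟨q₀, hq₀⟩ : ∃ q₀, q₀ = n - p₀ := ⟨_, rfl⟩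
      let x₀ := x ≫ π K p₀ q₀ n (by omega)
      have hx₀ : x₀ ≫ (K.d p₀ (p₀ + 1)).f q₀ = 0 := by
        have h := congrArg (· ≫ π K (p₀ + 1) q₀ (n + 1) (by omega)) hx
        simp only [zero_comp, Category.assoc] at h
        rw [← h]
        conv_rhs => rw [← Category.id_comp (T.d n (n + 1) ≫ _),
          ← sum_π_ι hK n (max (n - b) p₀) (le_max_left _ _), Preadditive.sum_comp, Preadditive.comp_sum]
        rw [Finset.sum_eq_single p₀]
        · subst hq₀
          simp only [Category.assoc]
          erw [ι_d_π_top p₀ (n - p₀) n (p₀ + 1) (n + 1) (by omega) rfl rfl]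
          simp [x₀]
        · intro p _ hne
          rcases lt_or_gt_of_ne hne with hlt | hgt
          · simp only [Category.assoc]
            erw [ι_d_π_above p (n - p) n (p₀ + 1) q₀ (n + 1) (by omega) rfl (by omega) (by omega)]
            simp
          · simp only [Category.assoc]
            rw [reassoc_of% (hxk p (n - p) (by omega) (by push_cast; omega)), zero_comp]
        · intro hp
          exact (hp (Finset.mem_Icc.2 ⟨by omega, le_max_right _ _⟩)).elim
      have hrow : (ShortComplex.mk ((K.d (p₀ - 1) p₀).f q₀) ((K.d p₀ (p₀ + 1)).f q₀)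
          (by rw [← HomologicalComplex.comp_f, K.d_comp_d, HomologicalComplex.zero_f])).Exact :=
        ((exactAt_iff' _ (p₀ - 1) p₀ (p₀ + 1) (by simp) (by simp)).1 (hex p₀)).map
          (HomologicalComplex.eval A (ComplexShape.up ℤ) q₀)
      obtain ⟨W₁, e₁, he₁, y, hy⟩ := hrow.exact_up_to_refinements x₀ hx₀
      dsimp at y hy
      let z := e₁ ≫ x - (y ≫ ι K (p₀ - 1) q₀ (n - 1) (by omega)) ≫ T.d (n - 1) n
      obtain ⟨W₂, e₂, he₂, w, hw⟩ := ih W₁ z
        (by
          simp only [z, Preadditive.sub_comp, Category.assoc]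
          rw [hx, comp_zero, T.d_comp_d, comp_zero, comp_zero, sub_zero])
        (by
          intro p q h hp
          simp only [z, Preadditive.sub_comp, Category.assoc]
          rcases eq_or_lt_of_le hp with he | hlt
          · obtain rfl : p₀ = p := by omega
            obtain rfl : q₀ = q := by omega
            erw [ι_d_π_top (p₀ - 1) q₀ (n - 1) p₀ n (by omega) (by omega) (by omega)]
            rw [← hy, sub_self]
          · erw [ι_d_π_above (p₀ - 1) q₀ (n - 1) p q n (by omega) (by omega) h (by omega)]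
            rw [hxk p q h (by push_cast; omega), comp_zero, comp_zero, sub_zero])
      refine ⟨W₂, e₂ ≫ e₁, epi_comp _ _,
        w + e₂ ≫ y ≫ ι K (p₀ - 1) q₀ (n - 1) (by omega), ?_⟩
      have : e₂ ≫ e₁ ≫ x = e₂ ≫ z + e₂ ≫ (y ≫ ι K (p₀ - 1) q₀ (n - 1) (by omega)) ≫ T.d (n - 1) n := by
        simp [z]
      rw [Category.assoc, this, hw, Preadditive.add_comp]
      simp
  intro W x hx
  exact key (n - b + 1 - a).toNat W x hx fun p q h hp => (hK p q (Or.inr (by omega))).eq_of_tgt _ _

lemma π_map {L : Dbl A} [L.HasTotal (ComplexShape.up ℤ)] (φ : K ⟶ L) (p q n : ℤ) (h : p + q = n) :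
    (HomologicalComplex₂.total.map φ (ComplexShape.up ℤ)).f n ≫ π L p q n h =
      π K p q n h ≫ (φ.f p).f q := by
  refine HomologicalComplex₂.total.hom_ext (ComplexShape.up ℤ) fun p' q' h' => ?_
  rw [HomologicalComplex₂.ιTotal_map_assoc]
  have h'' : p' + q' = n := h'
  by_cases e : p' = p
  · subst e
    obtain rfl : q' = q := by omega
    erw [ι_π_self, reassoc_of% (ι_π_self K p' q' n h'')]
    exact Category.comp_id _
  · erw [ι_π_ne L p' q' p q n h'' h e, reassoc_of% (ι_π_ne K p' q' p q n h'' h e), comp_zero,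
      zero_comp]

/-- Totals of short exact sequences are short exact. -/
theorem shortExact_total {S : ShortComplex (Dbl A)} (hS : S.ShortExact) {a b : ℤ}
    (h₁ : Bdd S.X₁ a b) (h₂ : Bdd S.X₂ a b) (h₃ : Bdd S.X₃ a b)
    [S.X₁.HasTotal (ComplexShape.up ℤ)] [S.X₂.HasTotal (ComplexShape.up ℤ)]
    [S.X₃.HasTotal (ComplexShape.up ℤ)] :
    ∃ w : HomologicalComplex₂.total.map S.f (ComplexShape.up ℤ) ≫
        HomologicalComplex₂.total.map S.g (ComplexShape.up ℤ) = 0,
      (ShortComplex.mk _ _ w).ShortExact := by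
  have hpq : ∀ p q : ℤ, (ShortComplex.mk ((S.f.f p).f q) ((S.g.f p).f q)
      (by rw [← HomologicalComplex.comp_f, ← HomologicalComplex.comp_f, S.zero]; rfl)).ShortExact := fun p q =>
    ((hS.map_of_exact (HomologicalComplex.eval (HomologicalComplex A (ComplexShape.up ℤ)) (ComplexShape.up ℤ) p)).map_of_exact
      (HomologicalComplex.eval A (ComplexShape.up ℤ) q))
  have w : HomologicalComplex₂.total.map S.f (ComplexShape.up ℤ) ≫
      HomologicalComplex₂.total.map S.g (ComplexShape.up ℤ) = 0 := by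
    refine HomologicalComplex.hom_ext _ _ fun n => π_ext h₃ fun p q h => ?_
    rw [HomologicalComplex.comp_f, Category.assoc, π_map, reassoc_of% (π_map S.f p q n h),
      (ShortComplex.mk ((S.f.f p).f q) ((S.g.f p).f q) _).zero]
    · exact comp_zero.trans zero_comp.symm
    · rw [← HomologicalComplex.comp_f, ← HomologicalComplex.comp_f, S.zero]; rfl
  refine ⟨w, HomologicalComplex.shortExact_of_degreewise_shortExact _ fun n => ?_⟩
  let F := (HomologicalComplex₂.total.map S.f (ComplexShape.up ℤ)).f n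
  let G := (HomologicalComplex₂.total.map S.g (ComplexShape.up ℤ)).f n
  haveI : Mono F := Preadditive.mono_of_cancel_zero _ fun {W} x hx => π_ext h₁ fun p q h => by
    haveI := (hpq p q).mono_f
    rw [zero_comp, ← cancel_mono ((S.f.f p).f q), zero_comp, Category.assoc, ← π_map,
      reassoc_of% hx, zero_comp]
  haveI : Epi G := Preadditive.epi_of_cancel_zero _ fun {W} x hx =>
    HomologicalComplex₂.total.hom_ext (ComplexShape.up ℤ) fun p q h => by
      haveI : Epi ((S.g.f p).f q) := (hpq p q).epi_g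
      rw [comp_zero, ← cancel_epi ((S.g.f p).f q), comp_zero, ← HomologicalComplex₂.ιTotal_map_assoc]
      erw [hx, comp_zero]
  refine { exact := ?_, mono_f := ‹Mono F›, epi_g := ‹Epi G› }
  rw [ShortComplex.exact_iff_exact_up_to_refinements]
  intro W x hx
  change W ⟶ (HomologicalComplex₂.total S.X₂ (ComplexShape.up ℤ)).X n at x
  change x ≫ G = 0 at hx
  have hc : ∀ (p q : ℤ) (h : p + q = n), (x ≫ π S.X₂ p q n h) ≫ (S.g.f p).f q = 0 := fun p q h => by
    rw [Category.assoc, ← π_map, ← Category.assoc]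
    exact (congrArg (· ≫ π S.X₃ p q n h) hx).trans zero_comp
  let l : ∀ (p q : ℤ) (h : p + q = n), W ⟶ (S.X₁.X p).X q := fun p q h =>
    haveI := (hpq p q).mono_f
    (hpq p q).exact.lift (x ≫ π S.X₂ p q n h) (hc p q h)
  suffices h : ∃ g : W ⟶ (HomologicalComplex₂.total S.X₁ (ComplexShape.up ℤ)).X n, x = g ≫ F from
    ⟨W, 𝟙 W, inferInstance, h.choose, (Category.id_comp x).trans h.choose_spec⟩
  refine ⟨∑ p ∈ Finset.Icc a (n - b), l p (n - p) (by omega) ≫ ι S.X₁ p (n - p) n (by omega), ?_⟩
  conv_lhs => rw [← Category.comp_id x, ← sum_π_ι h₂ n (n - b) le_rfl,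
    Preadditive.comp_sum]
  rw [Preadditive.sum_comp]
  refine Finset.sum_congr rfl fun p _ => ?_
  haveI := (hpq p (n - p)).mono_f
  have hl : l p (n - p) (by omega) ≫ (S.f.f p).f (n - p) = x ≫ π S.X₂ p (n - p) n (by omega) :=
    ShortComplex.Exact.lift_f _ _ _
  rw [Category.assoc]
  erw [HomologicalComplex₂.ιTotal_map]
  rw [← Category.assoc, ← Category.assoc, hl]

end Groth.Agent.H16Derived.Double
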